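import Mathlib

/-!
# Project REEM (helper20): the Schur multiplier of `²G₂(q)`, `q = 3^(2m+1) ≥ 27`, is trivial (S2113)

Abstract setting for the prime `3` (Alperin–Gorenstein, as in helper95's S2111 for `Sz(q)`):
`P` is the preimage of a Sylow `3`-subgroup `U¹` in a central extension; `τ μ ν : P → F` are the Ree
coordinates of the image in `U¹`; `φ` is conjugation by a lift of a torus element.  We show that the
central subgroup `K₀ = {τ = μ = ν = 0}` is a direct factor of `P`: every homomorphism `K₀ → A`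
extends to `P` (theorem `split`, file `Split.lean`).

Everything is RELATIVE: functions are total on `P`, properties are stated on subgroups.
-/

set_option autoImplicit false

namespace Cfsg.Agent.Lib.Helper20.ReeM

/-- Ree coordinates on a group `P` modulo a central subgroup, with a torus endomorphism `φ`
acting with weights `a`, `a^(1+n)`, `a^(2+n)`; in the application `n = 3 * 3 ^ m`. -/
structure Coord (F : Type*) [Field F] (n : ℕ) (P : Type*) [Group P] where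
  τ : P → F
  μ : P → F
  ν : P → F
  τ_mul : ∀ x y, τ (x * y) = τ x + τ y
  μ_mul : ∀ x y, μ (x * y) = μ x + μ y - τ x * τ y ^ n
  ν_mul : ∀ x y, ν (x * y) =
    ν x + ν y - τ y * μ x - τ x ^ 2 * τ y ^ n + τ x * τ y ^ n * τ y
  surj : ∀ t u v : F, ∃ x, τ x = t ∧ μ x = u ∧ ν x = v
  central : ∀ z, τ z = 0 → μ z = 0 → ν z = 0 → z ∈ Subgroup.center P
  φ : P →* P
  a : F
  τ_φ : ∀ x, τ (φ x) = a * τ x
  μ_φ : ∀ x, μ (φ x) = a ^ (1 + n) * μ x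
  ν_φ : ∀ x, ν (φ x) = a ^ (2 + n) * ν x
  φ_fix : ∀ z, τ z = 0 → μ z = 0 → ν z = 0 → φ z = z

namespace Coord

variable {F : Type*} [Field F] {n : ℕ} {P : Type*} [Group P] (S : Coord F n P)

theorem τ_one : S.τ 1 = 0 := by
  have := S.τ_mul 1 1
  rw [one_mul] at this
  exact left_eq_add.mp this

theorem τ_inv (x : P) : S.τ x⁻¹ = - S.τ x := by
  have := S.τ_mul x⁻¹ x
  rw [inv_mul_cancel, S.τ_one] at this
  exact eq_neg_of_add_eq_zero_left this.symm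

/-- `W₂ = {τ = 0}`, the preimage of `U₂ = [U,U]` -/
def W₂ : Subgroup P where
  carrier := {x | S.τ x = 0}
  one_mem' := S.τ_one
  mul_mem' := by
    intro x y hx hy
    simp only [Set.mem_setOf_eq] at hx hy ⊢
    rw [S.τ_mul, hx, hy, add_zero]
  inv_mem' := by
    intro x hx
    simp only [Set.mem_setOf_eq] at hx ⊢
    rw [S.τ_inv, hx, neg_zero]

theorem mem_W₂ {x : P} : x ∈ S.W₂ ↔ S.τ x = 0 := Iff.rfl

theorem μ_mul_of_left {x : P} (hx : S.τ x = 0) (y : P) : S.μ (x * y) = S.μ x + S.μ y := by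
  rw [S.μ_mul, hx, zero_mul, sub_zero]

theorem μ_one : S.μ 1 = 0 := by
  have := S.μ_mul_of_left S.τ_one 1
  rw [one_mul] at this
  exact left_eq_add.mp this

theorem μ_inv_of {x : P} (hx : S.τ x = 0) : S.μ x⁻¹ = - S.μ x := by
  have hx' : S.τ x⁻¹ = 0 := by rw [S.τ_inv, hx, neg_zero]
  have := S.μ_mul_of_left hx' x
  rw [inv_mul_cancel, S.μ_one] at this
  exact eq_neg_of_add_eq_zero_left this.symm

/-- `W₃ = {τ = μ = 0}`, the preimage of `U₃ = Z(U)` -/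
def W₃ : Subgroup P where
  carrier := {x | S.τ x = 0 ∧ S.μ x = 0}
  one_mem' := ⟨S.τ_one, S.μ_one⟩
  mul_mem' := by
    rintro x y ⟨hx, hx'⟩ ⟨hy, hy'⟩
    refine ⟨by rw [S.τ_mul, hx, hy, add_zero], ?_⟩
    rw [S.μ_mul_of_left hx, hx', hy', add_zero]
  inv_mem' := by
    rintro x ⟨hx, hx'⟩
    exact ⟨by rw [S.τ_inv, hx, neg_zero], by rw [S.μ_inv_of hx, hx', neg_zero]⟩

theorem mem_W₃ {x : P} : x ∈ S.W₃ ↔ S.τ x = 0 ∧ S.μ x = 0 := Iff.rfl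

theorem ν_mul_of_left {x : P} (hx : S.τ x = 0) (hx' : S.μ x = 0) (y : P) :
    S.ν (x * y) = S.ν x + S.ν y := by
  rw [S.ν_mul, hx, hx']; ring

theorem ν_mul_of_W₂ {x y : P} (hx : S.τ x = 0) (hy : S.τ y = 0) :
    S.ν (x * y) = S.ν x + S.ν y := by
  rw [S.ν_mul, hx, hy]; ring

theorem ν_one : S.ν 1 = 0 := by
  have := S.ν_mul_of_left S.τ_one S.μ_one 1
  rw [one_mul] at this
  exact left_eq_add.mp this

theorem ν_inv_of {x : P} (hx : S.τ x = 0) : S.ν x⁻¹ = - S.ν x := by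
  have hx' : S.τ x⁻¹ = 0 := by rw [S.τ_inv, hx, neg_zero]
  have := S.ν_mul_of_W₂ hx' hx
  rw [inv_mul_cancel, S.ν_one] at this
  exact eq_neg_of_add_eq_zero_left this.symm

/-- `K₀ = {τ = μ = ν = 0}`, the central subgroup (the kernel of the extension) -/
def K₀ : Subgroup P where
  carrier := {x | S.τ x = 0 ∧ S.μ x = 0 ∧ S.ν x = 0}
  one_mem' := ⟨S.τ_one, S.μ_one, S.ν_one⟩
  mul_mem' := by
    rintro x y ⟨hx, hx', hx''⟩ ⟨hy, hy', hy''⟩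
    refine ⟨by rw [S.τ_mul, hx, hy, add_zero], ?_, ?_⟩
    · rw [S.μ_mul_of_left hx, hx', hy', add_zero]
    · rw [S.ν_mul_of_left hx hx', hx'', hy'', add_zero]
  inv_mem' := by
    rintro x ⟨hx, hx', hx''⟩
    exact ⟨by rw [S.τ_inv, hx, neg_zero], by rw [S.μ_inv_of hx, hx', neg_zero],
      by rw [S.ν_inv_of hx, hx'', neg_zero]⟩

theorem mem_K₀ {x : P} : x ∈ S.K₀ ↔ S.τ x = 0 ∧ S.μ x = 0 ∧ S.ν x = 0 := Iff.rfl

theorem K₀_le_W₃ : S.K₀ ≤ S.W₃ := fun _ h => ⟨h.1, h.2.1⟩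

theorem W₃_le_W₂ : S.W₃ ≤ S.W₂ := fun _ h => h.1

theorem K₀_le_center : S.K₀ ≤ Subgroup.center P := fun z h => S.central z h.1 h.2.1 h.2.2

theorem φ_fix_K₀ {z : P} (hz : z ∈ S.K₀) : S.φ z = z := S.φ_fix z hz.1 hz.2.1 hz.2.2

theorem φ_mem_W₂ {x : P} (hx : x ∈ S.W₂) : S.φ x ∈ S.W₂ := by
  rw [mem_W₂] at hx ⊢
  rw [S.τ_φ, hx, mul_zero]

theorem φ_mem_W₃ {x : P} (hx : x ∈ S.W₃) : S.φ x ∈ S.W₃ := by
  rw [mem_W₃] at hx ⊢
  exact ⟨by rw [S.τ_φ, hx.1, mul_zero], by rw [S.μ_φ, hx.2, mul_zero]⟩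

/-! ### commutators in coordinates -/

theorem τ_comm (g x : P) : S.τ (g * x * g⁻¹ * x⁻¹) = 0 := by
  rw [S.τ_mul, S.τ_mul, S.τ_mul, S.τ_inv, S.τ_inv]; ring

/-- the `μ`-coordinate of a commutator -/
theorem μ_comm (g x : P) :
    S.μ (g * x * g⁻¹ * x⁻¹) = S.τ x * S.τ g ^ n - S.τ g * S.τ x ^ n := by
  have hk : S.τ (g * x * g⁻¹ * x⁻¹) = 0 := S.τ_comm g x
  have e : g * x * g⁻¹ * x⁻¹ * (x * g) = g * x := by group
  have h1 := S.μ_mul_of_left hk (x * g)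
  rw [e] at h1
  have h2 := S.μ_mul g x
  have h3 := S.μ_mul x g
  linear_combination -h1 + h2 - h3

theorem comm_mem_W₂ (g x : P) : g * x * g⁻¹ * x⁻¹ ∈ S.W₂ := S.τ_comm g x

theorem comm_mem_W₃ (hn : n ≠ 0) (g : P) {x : P} (hx : x ∈ S.W₂) :
    g * x * g⁻¹ * x⁻¹ ∈ S.W₃ := by
  rw [mem_W₂] at hx
  refine ⟨S.τ_comm g x, ?_⟩
  rw [S.μ_comm, hx, zero_pow hn]; ring

/-- the `ν`-coordinate of a commutator with an element of `W₂` -/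
theorem ν_comm_of_W₂ (hn : n ≠ 0) (g : P) {x : P} (hx : x ∈ S.W₂) :
    S.ν (g * x * g⁻¹ * x⁻¹) = S.τ g * S.μ x := by
  rw [mem_W₂] at hx
  have hk := S.comm_mem_W₃ hn g hx
  have e : g * x * g⁻¹ * x⁻¹ * (x * g) = g * x := by group
  have h1 := S.ν_mul_of_left hk.1 hk.2 (x * g)
  rw [e] at h1
  have h2 := S.ν_mul g x
  have h3 := S.ν_mul x g
  rw [hx, zero_pow hn] at h2
  rw [hx] at h3
  linear_combination -h1 + h2 - h3

theorem comm_mem_K₀ (hn : n ≠ 0) (g : P) {x : P} (hx : x ∈ S.W₃) :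
    g * x * g⁻¹ * x⁻¹ ∈ S.K₀ := by
  have hk := S.comm_mem_W₃ hn g (S.W₃_le_W₂ hx)
  refine ⟨hk.1, hk.2, ?_⟩
  rw [S.ν_comm_of_W₂ hn g (S.W₃_le_W₂ hx), hx.2, mul_zero]

theorem comm_mem_K₀_of_W₂ (hn : n ≠ 0) {g x : P} (hg : g ∈ S.W₂) (hx : x ∈ S.W₂) :
    g * x * g⁻¹ * x⁻¹ ∈ S.K₀ := by
  have hk := S.comm_mem_W₃ hn g hx
  refine ⟨hk.1, hk.2, ?_⟩
  rw [S.ν_comm_of_W₂ hn g hx, (S.mem_W₂.1 hg), zero_mul]

theorem conj_mem_W₂ (g : P) {x : P} (hx : x ∈ S.W₂) : g * x * g⁻¹ ∈ S.W₂ := by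
  have : g * x * g⁻¹ = (g * x * g⁻¹ * x⁻¹) * x := by group
  rw [this]
  exact S.W₂.mul_mem (S.comm_mem_W₂ g x) hx

theorem conj_mem_W₃ (hn : n ≠ 0) (g : P) {x : P} (hx : x ∈ S.W₃) : g * x * g⁻¹ ∈ S.W₃ := by
  have : g * x * g⁻¹ = (g * x * g⁻¹ * x⁻¹) * x := by group
  rw [this]
  exact S.W₃.mul_mem (S.comm_mem_W₃ hn g (S.W₃_le_W₂ hx)) hx

/-- equal `τ` ⇒ the quotient lies in `W₂` -/
theorem inv_mul_mem_W₂ {y y' : P} (h : S.τ y = S.τ y') : y⁻¹ * y' ∈ S.W₂ := by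
  rw [mem_W₂, S.τ_mul, S.τ_inv, h]; ring

/-- for `y, y' ∈ W₂`: equal `μ` ⇒ the quotient lies in `W₃` -/
theorem inv_mul_mem_W₃ {y y' : P} (hy : y ∈ S.W₂) (hy' : y' ∈ S.W₂) (h : S.μ y = S.μ y') :
    y⁻¹ * y' ∈ S.W₃ := by
  rw [mem_W₂] at hy hy'
  have hi : S.τ y⁻¹ = 0 := by rw [S.τ_inv, hy, neg_zero]
  refine ⟨by rw [S.τ_mul, hi, hy', add_zero], ?_⟩
  rw [S.μ_mul_of_left hi, S.μ_inv_of hy, h]; ring

/-- for `y, y' ∈ W₃`: equal `ν` ⇒ the quotient lies in `K₀` -/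
theorem inv_mul_mem_K₀ {y y' : P} (hy : y ∈ S.W₃) (hy' : y' ∈ S.W₃) (h : S.ν y = S.ν y') :
    y⁻¹ * y' ∈ S.K₀ := by
  have hq := S.W₃.mul_mem (S.W₃.inv_mem hy) hy'
  refine ⟨hq.1, hq.2, ?_⟩
  have hi : S.τ y⁻¹ = 0 := by rw [S.τ_inv, hy.1, neg_zero]
  rw [S.ν_mul_of_W₂ hi hy'.1, S.ν_inv_of hy.1, h]; ring

end Coord

/-! ## The statements of the generic modules (proved in other files, used as hypotheses) -/

section Stmts

variable (F : Type*) [Field F]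

/-- `f : F → F → A` is biadditive -/
def BiAdd {F : Type*} [Field F] {A : Type*} [CommGroup A] (f : F → F → A) : Prop :=
  (∀ t t' u, f (t + t') u = f t u * f t' u) ∧ (∀ t u u', f t (u + u') = f t u * f t u')

/-- **pairing statement with weights `(a^i, a^j)`**: a biadditive `f` with
`f (a^i t) (a^j u) = f t u` is trivial -/
def PairStmt (F : Type*) [Field F] (A : Type*) [CommGroup A] (a : F) (i j : ℕ) : Prop :=
  ∀ f : F → F → A, BiAdd f → (∀ t u, f (a ^ i * t) (a ^ j * u) = f t u) → ∀ t u, f t u = 1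

/-- **[EXT] the invariant extension lemma, relative form** -/
def ExtStmt (P : Type*) [Group P] (A : Type*) [CommGroup A] (F : Type*) [Field F] : Prop :=
  ∀ (E C : Subgroup P) (_ : C ≤ E) (ρ : P → A)
    (_ : ∀ x ∈ C, ∀ y ∈ C, ρ (x * y) = ρ x * ρ y)
    (π : P → F) (_ : ∀ x ∈ E, ∀ y ∈ E, π (x * y) = π x + π y)
    (_ : ∀ b : F, ∃ x ∈ E, π x = b) (_ : ∀ x ∈ E, π x = 0 ↔ x ∈ C)
    (φ : P →* P) (_ : ∀ x ∈ E, φ x ∈ E) (c₀ : F) (_ : c₀ ≠ 1)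
    (_ : ∀ x ∈ E, π (φ x) = c₀ * π x)
    (_ : ∀ c ∈ C, ρ (φ c) = ρ c)
    (_ : ∀ e ∈ E, ∀ c ∈ C, ρ (e * c * e⁻¹) = ρ c)
    (_ : ∀ x ∈ E, ∀ y ∈ E, ρ (x * y * x⁻¹ * y⁻¹) = 1),
    ∃ χ : P → A, (∀ x ∈ E, ∀ y ∈ E, χ (x * y) = χ x * χ y) ∧ (∀ c ∈ C, χ c = ρ c) ∧
      (∀ x ∈ E, χ (φ x) = χ x)

/-- **[CP] the coordinate bookkeeping for a pairing `B : X × Y → A`** -/
def CPStmt (P : Type*) [Group P] (A : Type*) [CommGroup A] (F : Type*) [Field F] : Prop :=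
  ∀ (X Y X₀ Y₀ : Subgroup P) (B : P → P → A) (πX πY : P → F)
    (_ : ∀ x ∈ X, ∀ x' ∈ X, πX (x * x') = πX x + πX x')
    (_ : ∀ y ∈ Y, ∀ y' ∈ Y, πY (y * y') = πY y + πY y')
    (_ : ∀ b : F, ∃ x ∈ X, πX x = b) (_ : ∀ b : F, ∃ y ∈ Y, πY y = b)
    (_ : ∀ x ∈ X, πX x = 0 ↔ x ∈ X₀) (_ : ∀ y ∈ Y, πY y = 0 ↔ y ∈ Y₀)
    (_ : ∀ x ∈ X, ∀ x' ∈ X, ∀ y ∈ Y, B (x * x') y = B x y * B x' y)
    (_ : ∀ x ∈ X, ∀ y ∈ Y, ∀ y' ∈ Y, B x (y * y') = B x y * B x y')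
    (_ : ∀ x ∈ X₀, ∀ y ∈ Y, B x y = 1) (_ : ∀ x ∈ X, ∀ y ∈ Y₀, B x y = 1)
    (φ : P →* P) (_ : ∀ x ∈ X, φ x ∈ X) (_ : ∀ y ∈ Y, φ y ∈ Y) (cX cY : F)
    (_ : ∀ x ∈ X, πX (φ x) = cX * πX x) (_ : ∀ y ∈ Y, πY (φ y) = cY * πY y)
    (_ : ∀ x ∈ X, ∀ y ∈ Y, B (φ x) (φ y) = B x y)
    (_ : ∀ f : F → F → A, BiAdd f → (∀ t u, f (cX * t) (cY * u) = f t u) → ∀ t u, f t u = 1),
    ∀ x ∈ X, ∀ y ∈ Y, B x y = 1

end Stmts

/-- the invariants carried from one layer to the next: `χ` is multiplicative on `W`, agrees with `ρ₀`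
on `K₀`, is `φ`-invariant and `P`-conjugation invariant on `W` -/
structure Layer {F : Type*} [Field F] {n : ℕ} {P : Type*} [Group P] (S : Coord F n P)
    {A : Type*} [CommGroup A] (ρ₀ : P → A) (W : Subgroup P) (χ : P → A) : Prop where
  mul : ∀ x ∈ W, ∀ y ∈ W, χ (x * y) = χ x * χ y
  ext : ∀ z ∈ S.K₀, χ z = ρ₀ z
  inv_φ : ∀ x ∈ W, χ (S.φ x) = χ x
  inv_conj : ∀ g : P, ∀ x ∈ W, χ (g * x * g⁻¹) = χ x

end Cfsg.Agent.Lib.Helper20.ReeM
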