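import Mathlib
import Cfsg.Prelude.Def_KGroupFacts

/-!
# REEM (helper20): generic transfer tools for stem extensions

`map_eq_one_of_transfer` is helper95's lemma (`Lib/Helper95/StemExt.lean`), restated here to keep the import
closure light; `hasCyclicSchurMultiplier_one` is from helper95's `S2111.lean`.
-/

set_option autoImplicit false

namespace Cfsg.Agent.Lib.Helper20.ReeM

open Subgroup

/-- Transfer lemma: a central element of the commutator subgroup with `z ^ p = 1` is killed by every homomorphism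
from a subgroup of index prime to `p` into an abelian group. -/
theorem map_eq_one_of_transfer {Γ : Type*} [Group Γ] {A : Type*} [CommGroup A] (H : Subgroup Γ)
    [H.FiniteIndex] (χ : H →* A) {z : Γ} (hzc : z ∈ center Γ) (hzH : z ∈ H)
    (hzcomm : z ∈ commutator Γ) {p : ℕ} (hp : z ^ p = 1) (hcop : Nat.Coprime H.index p) :
    χ ⟨z, hzH⟩ = 1 := by
  have key : ∀ (k : ℕ) (g₀ : Γ), g₀⁻¹ * z ^ k * g₀ ∈ H → g₀⁻¹ * z ^ k * g₀ = z ^ k := by
    intro k g₀ _
    have hk : z ^ k ∈ center Γ := Subgroup.pow_mem _ hzc k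
    rw [mul_assoc, ← Subgroup.mem_center_iff.mp hk g₀, inv_mul_cancel_left]
  have h1 := MonoidHom.transfer_eq_pow χ z key
  have h2 : MonoidHom.transfer χ z = 1 :=
    Abelianization.commutator_subset_ker (MonoidHom.transfer χ) hzcomm
  have h3 : (χ ⟨z, hzH⟩) ^ H.index = 1 := by
    rw [← map_pow, ← h2, h1]
    rfl
  have h4 : (χ ⟨z, hzH⟩) ^ p = 1 := by
    rw [← map_pow]
    have : (⟨z, hzH⟩ : H) ^ p = 1 := Subtype.ext (by simpa using hp)
    rw [this, map_one]
  have h5 := orderOf_dvd_of_pow_eq_one h3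
  have h6 := orderOf_dvd_of_pow_eq_one h4
  have h7 : orderOf (χ ⟨z, hzH⟩) ∣ 1 := by
    have := Nat.dvd_gcd h5 h6
    rwa [hcop] at this
  exact orderOf_eq_one_iff.mp (Nat.dvd_one.mp h7)

/-- a group all of whose finite stem extensions are isomorphisms has trivial Schur multiplier -/
theorem hasCyclicSchurMultiplier_one.{u} {G : Type u} [Group G] [Finite G]
    (h : ∀ (Γ : Type u) [Group Γ] [Finite Γ] (σ : Γ →* G), Cfsg.IsStemExtension σ → σ.ker = ⊥) :
    Cfsg.HasCyclicSchurMultiplier G 1 := by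
  refine ⟨⟨G, inferInstance, inferInstance, MonoidHom.id G, ⟨Function.surjective_id, ?_, ?_⟩, ?_⟩, ?_⟩
  · rw [MonoidHom.ker_id]; exact bot_le
  · rw [MonoidHom.ker_id]; exact bot_le
  · rw [MonoidHom.ker_id]
    have : Unique (Multiplicative (ZMod 1)) := by
      change Unique (Multiplicative (Fin 1))
      infer_instance
    exact ⟨MulEquiv.ofUnique⟩
  · intro Γ _ _ σ hs
    have hk := h Γ σ hs
    refine ⟨1, ?_⟩
    intro x
    refine ⟨1, ?_⟩
    have : (x : Γ) ∈ (⊥ : Subgroup Γ) := hk ▸ x.2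
    exact Subtype.ext (by simpa using (Subgroup.mem_bot.mp this).symm)

/-- a finite subgroup all of whose elements of prime order are trivial is trivial -/
theorem eq_bot_of_prime_order {Γ : Type*} [Group Γ] [Finite Γ] (N : Subgroup Γ)
    (h : ∀ p : ℕ, p.Prime → ∀ z ∈ N, z ^ p = 1 → z = 1) : N = ⊥ := by
  by_contra hne
  have hcard : Nat.card N ≠ 1 := by
    intro h1
    exact hne (Subgroup.card_eq_one.mp h1)
  obtain ⟨p, hp, hpd⟩ := Nat.exists_prime_and_dvd hcard
  haveI : Fact p.Prime := ⟨hp⟩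
  obtain ⟨x, hx⟩ := exists_prime_orderOf_dvd_card' (G := N) p hpd
  have h1 : (x : Γ) ^ p = 1 := by
    have : x ^ p = 1 := by rw [← hx]; exact pow_orderOf_eq_one x
    exact_mod_cast congrArg Subtype.val this
  have h2 := h p hp x x.2 h1
  have h3 : x = 1 := Subtype.ext h2
  rw [h3, orderOf_one] at hx
  exact hp.one_lt.ne hx

end Cfsg.Agent.Lib.Helper20.ReeM
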