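import Mathlib
import Cfsg.Prelude.Def_KGroupFacts
import Cfsg.Agent.Lib.Helper20.ReeM.Defs
import Cfsg.Agent.Lib.Helper20.ReeM.Transfer

/-!
# REEM (helper20): the prime `3`, abstract glue

`RData` packages the Ree coordinates `R t u v` of a subgroup `U` of a group `G` together with a torus element `h`
acting with weights `a`, `a^(1+n)`, `a^(2+n)`.  For a stem extension `σ : Γ → G` the preimage `P = σ⁻¹(U)` gets a
`Coord` structure (`coord`); if the central subgroup `K₀` of `P` is a direct factor (hypothesis `hsplit`, which is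
the conclusion of theorem `split`) and the index of `U` is prime to `3`, then `ker σ` has no element of order `3`.
-/

set_option autoImplicit false

namespace Cfsg.Agent.Lib.Helper20.ReeM

universe u v w

/-- Ree coordinates on a subgroup `U` of `G` and a torus element. -/
structure RData (F : Type w) [Field F] (n : ℕ) (G : Type v) [Group G] where
  U : Subgroup G
  R : F → F → F → G
  inj : ∀ t u v t' u' v', R t u v = R t' u' v' → t = t' ∧ u = u' ∧ v = v'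
  surj : ∀ x ∈ U, ∃ t u v, x = R t u v
  mem : ∀ t u v, R t u v ∈ U
  mul : ∀ t u v t' u' v', R t u v * R t' u' v' =
    R (t + t') (u + u' - t * t' ^ n) (v + v' - t' * u - t ^ 2 * t' ^ n + t * t' ^ n * t')
  zero : R 0 0 0 = 1
  h : G
  a : F
  conj : ∀ t u v, h * R t u v * h⁻¹ = R (a * t) (a ^ (1 + n) * u) (a ^ (2 + n) * v)

namespace RData

variable {F : Type w} [Field F] {n : ℕ} {G : Type v} [Group G] (D : RData F n G)
  {Γ : Type u} [Group Γ] (σ : Γ →* G)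

/-- the coordinates of an element of the preimage of `U` -/
noncomputable def crd (x : ↥(D.U.comap σ)) : F × F × F :=
  ((D.surj (σ x.1) x.2).choose, (D.surj (σ x.1) x.2).choose_spec.choose,
    (D.surj (σ x.1) x.2).choose_spec.choose_spec.choose)

theorem crd_spec (x : ↥(D.U.comap σ)) :
    σ x.1 = D.R (D.crd σ x).1 (D.crd σ x).2.1 (D.crd σ x).2.2 :=
  (D.surj (σ x.1) x.2).choose_spec.choose_spec.choose_spec

theorem crd_eq (x : ↥(D.U.comap σ)) (t u v : F) (h : σ x.1 = D.R t u v) :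
    (D.crd σ x).1 = t ∧ (D.crd σ x).2.1 = u ∧ (D.crd σ x).2.2 = v := by
  have := D.crd_spec σ x
  rw [h] at this
  obtain ⟨h1, h2, h3⟩ := D.inj _ _ _ _ _ _ this
  exact ⟨h1.symm, h2.symm, h3.symm⟩

theorem mem_ker_of_crd (x : ↥(D.U.comap σ)) (h1 : (D.crd σ x).1 = 0) (h2 : (D.crd σ x).2.1 = 0)
    (h3 : (D.crd σ x).2.2 = 0) : x.1 ∈ σ.ker := by
  rw [MonoidHom.mem_ker, D.crd_spec σ x, h1, h2, h3, D.zero]

theorem crd_of_mem_ker (x : ↥(D.U.comap σ)) (hx : x.1 ∈ σ.ker) :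
    (D.crd σ x).1 = 0 ∧ (D.crd σ x).2.1 = 0 ∧ (D.crd σ x).2.2 = 0 := by
  apply D.crd_eq σ x
  rw [MonoidHom.mem_ker.mp hx, D.zero]

theorem crd_mul (x y : ↥(D.U.comap σ)) :
    σ (x * y).1 = D.R ((D.crd σ x).1 + (D.crd σ y).1)
      ((D.crd σ x).2.1 + (D.crd σ y).2.1 - (D.crd σ x).1 * (D.crd σ y).1 ^ n)
      ((D.crd σ x).2.2 + (D.crd σ y).2.2 - (D.crd σ y).1 * (D.crd σ x).2.1
        - (D.crd σ x).1 ^ 2 * (D.crd σ y).1 ^ n + (D.crd σ x).1 * (D.crd σ y).1 ^ n * (D.crd σ y).1) := by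
  rw [Subgroup.coe_mul, map_mul, D.crd_spec σ x, D.crd_spec σ y, D.mul]

theorem crd_conj (g : Γ) (hg : σ g = D.h) (x : ↥(D.U.comap σ)) :
    σ (g * x.1 * g⁻¹) = D.R (D.a * (D.crd σ x).1) (D.a ^ (1 + n) * (D.crd σ x).2.1)
      (D.a ^ (2 + n) * (D.crd σ x).2.2) := by
  rw [map_mul, map_mul, map_inv, hg, D.crd_spec σ x, D.conj]

theorem conj_mem (g : Γ) (hg : σ g = D.h) (x : ↥(D.U.comap σ)) : g * x.1 * g⁻¹ ∈ D.U.comap σ := by
  rw [Subgroup.mem_comap, D.crd_conj σ g hg x]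
  exact D.mem _ _ _

/-- conjugation by a lift of `h` as an endomorphism of the preimage of `U` -/
noncomputable def conjHom (g : Γ) (hg : σ g = D.h) : ↥(D.U.comap σ) →* ↥(D.U.comap σ) where
  toFun x := ⟨g * x.1 * g⁻¹, D.conj_mem σ g hg x⟩
  map_one' := Subtype.ext (by simp)
  map_mul' x y := Subtype.ext (by simp [mul_assoc])

theorem conjHom_coe (g : Γ) (hg : σ g = D.h) (x : ↥(D.U.comap σ)) :
    (D.conjHom σ g hg x).1 = g * x.1 * g⁻¹ := rfl

/-- the `Coord` structure on the preimage of `U` -/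
noncomputable def coord (hsurj : Function.Surjective σ) (hcen : σ.ker ≤ Subgroup.center Γ) :
    Coord F n ↥(D.U.comap σ) where
  τ x := (D.crd σ x).1
  μ x := (D.crd σ x).2.1
  ν x := (D.crd σ x).2.2
  τ_mul x y := (D.crd_eq σ (x * y) _ _ _ (D.crd_mul σ x y)).1
  μ_mul x y := (D.crd_eq σ (x * y) _ _ _ (D.crd_mul σ x y)).2.1
  ν_mul x y := (D.crd_eq σ (x * y) _ _ _ (D.crd_mul σ x y)).2.2
  surj t u v := by
    obtain ⟨g, hg⟩ := hsurj (D.R t u v)
    have hgU : g ∈ D.U.comap σ := by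
      rw [Subgroup.mem_comap, hg]
      exact D.mem t u v
    exact ⟨⟨g, hgU⟩, D.crd_eq σ ⟨g, hgU⟩ t u v hg⟩
  central z h1 h2 h3 := by
    have hz : z.1 ∈ Subgroup.center Γ := hcen (D.mem_ker_of_crd σ z h1 h2 h3)
    rw [Subgroup.mem_center_iff] at hz ⊢
    intro g
    exact Subtype.ext (hz g.1)
  φ := D.conjHom σ (hsurj D.h).choose (hsurj D.h).choose_spec
  a := D.a
  τ_φ x := (D.crd_eq σ _ _ _ _ (D.crd_conj σ _ (hsurj D.h).choose_spec x)).1
  μ_φ x := (D.crd_eq σ _ _ _ _ (D.crd_conj σ _ (hsurj D.h).choose_spec x)).2.1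
  ν_φ x := (D.crd_eq σ _ _ _ _ (D.crd_conj σ _ (hsurj D.h).choose_spec x)).2.2
  φ_fix z h1 h2 h3 := by
    have hz : z.1 ∈ Subgroup.center Γ := hcen (D.mem_ker_of_crd σ z h1 h2 h3)
    rw [Subgroup.mem_center_iff] at hz
    apply Subtype.ext
    rw [conjHom_coe, hz, mul_inv_cancel_right]

theorem coord_a (hsurj : Function.Surjective σ) (hcen : σ.ker ≤ Subgroup.center Γ) :
    (D.coord σ hsurj hcen).a = D.a := rfl

theorem mem_K₀_iff (hsurj : Function.Surjective σ) (hcen : σ.ker ≤ Subgroup.center Γ)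
    (x : ↥(D.U.comap σ)) : x ∈ (D.coord σ hsurj hcen).K₀ ↔ x.1 ∈ σ.ker := by
  constructor
  · rintro ⟨h1, h2, h3⟩
    exact D.mem_ker_of_crd σ x h1 h2 h3
  · intro hx
    exact D.crd_of_mem_ker σ x hx

/-- If `K₀` is a direct factor of `P = σ⁻¹(U)` and `|G : U|` is prime to `3`, a stem extension has no kernel element
of order `3`. -/
theorem three_abs [Finite Γ] (hσ : Cfsg.IsStemExtension σ)
    (hsplit : ∀ (S : Coord F n ↥(D.U.comap σ)), S.a = D.a →
      ∀ {A : Type u} [CommGroup A] (ρ₀ : ↥(D.U.comap σ) → A),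
        (∀ x ∈ S.K₀, ∀ y ∈ S.K₀, ρ₀ (x * y) = ρ₀ x * ρ₀ y) →
        ∃ χ : ↥(D.U.comap σ) →* A, ∀ z ∈ S.K₀, χ z = ρ₀ z)
    (hidx : Nat.Coprime D.U.index 3) (z : Γ) (hz : z ∈ σ.ker) (hz3 : z ^ 3 = 1) : z = 1 := by
  classical
  obtain ⟨hsurj, hcen, hcomm⟩ := hσ
  set S := D.coord σ hsurj hcen with hS
  letI : CommGroup ↥(Subgroup.center Γ) :=
    { (inferInstance : Group ↥(Subgroup.center Γ)) with
      mul_comm := fun x y => Subtype.ext ((Subgroup.mem_center_iff.mp y.2 x.1)) }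
  let ρ₀ : ↥(D.U.comap σ) → ↥(Subgroup.center Γ) := fun x =>
    if h : x.1 ∈ Subgroup.center Γ then ⟨x.1, h⟩ else 1
  have hρ₀ : ∀ x ∈ S.K₀, ∀ y ∈ S.K₀, ρ₀ (x * y) = ρ₀ x * ρ₀ y := by
    intro x hx y hy
    have hx' : x.1 ∈ Subgroup.center Γ := hcen ((D.mem_K₀_iff σ hsurj hcen x).mp hx)
    have hy' : y.1 ∈ Subgroup.center Γ := hcen ((D.mem_K₀_iff σ hsurj hcen y).mp hy)
    have hxy' : (x * y).1 ∈ Subgroup.center Γ := by
      rw [Subgroup.coe_mul]; exact mul_mem hx' hy'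
    simp only [ρ₀, dif_pos hx', dif_pos hy', dif_pos hxy']
    rfl
  obtain ⟨χ, hχ⟩ := hsplit S rfl ρ₀ hρ₀
  have hzH : z ∈ D.U.comap σ := by
    rw [Subgroup.mem_comap, MonoidHom.mem_ker.mp hz]
    exact one_mem _
  have hzK : (⟨z, hzH⟩ : ↥(D.U.comap σ)) ∈ S.K₀ := (D.mem_K₀_iff σ hsurj hcen _).mpr hz
  have hzc : z ∈ Subgroup.center Γ := hcen hz
  have h1 : χ ⟨z, hzH⟩ = ⟨z, hzc⟩ := by
    rw [hχ _ hzK]
    simp only [ρ₀, dif_pos hzc]
  have hidx' : Nat.Coprime (D.U.comap σ).index 3 := by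
    rw [Subgroup.index_comap_of_surjective _ hsurj]
    exact hidx
  have h2 := map_eq_one_of_transfer (D.U.comap σ) χ hzc hzH (hcomm hz) hz3 hidx'
  rw [h1] at h2
  exact congrArg Subtype.val h2

end RData

end Cfsg.Agent.Lib.Helper20.ReeM
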