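import Mathlib
import Cfsg.Agent.Lib.Helper20.ReeM.Defs

/-! # REEM [EXT] (helper20): the invariant extension lemma, relative form

`χ x := ρ (x * (T y)⁻¹)` with `T y = φ y * y⁻¹` and `y ∈ E` chosen with `π (T y) = π x`. -/

set_option autoImplicit false

namespace Cfsg.Agent.Lib.Helper20.ReeM

variable {P : Type*} [Group P] {A : Type*} [CommGroup A] {F : Type*} [Field F]

/-- the hypotheses of `ExtStmt`, bundled -/
structure ExtHyp (E C : Subgroup P) (ρ : P → A) (π : P → F) (φ : P →* P) (c₀ : F) : Prop where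
  hCE : C ≤ E
  hρmul : ∀ x ∈ C, ∀ y ∈ C, ρ (x * y) = ρ x * ρ y
  hπ : ∀ x ∈ E, ∀ y ∈ E, π (x * y) = π x + π y
  hker : ∀ x ∈ E, π x = 0 ↔ x ∈ C
  hφE : ∀ x ∈ E, φ x ∈ E
  hc₀ : c₀ ≠ 1
  hπφ : ∀ x ∈ E, π (φ x) = c₀ * π x
  hρφ : ∀ c ∈ C, ρ (φ c) = ρ c
  hρconj : ∀ e ∈ E, ∀ c ∈ C, ρ (e * c * e⁻¹) = ρ c
  hρcomm : ∀ x ∈ E, ∀ y ∈ E, ρ (x * y * x⁻¹ * y⁻¹) = 1

/-- `T y = φ y * y⁻¹` -/
def extT (φ : P →* P) (y : P) : P := φ y * y⁻¹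

theorem extT_mul (φ : P →* P) (y y' : P) :
    extT φ (y * y') = extT φ y * (y * extT φ y' * y⁻¹) := by
  unfold extT; rw [map_mul]; group

theorem extT_φ (φ : P →* P) (y : P) : extT φ (φ y) = φ (extT φ y) := by
  unfold extT; rw [map_mul, map_inv]

theorem extT_one (φ : P →* P) : extT φ 1 = 1 := by
  unfold extT; rw [map_one, inv_one, mul_one]

namespace ExtHyp

variable {E C : Subgroup P} {ρ : P → A} {π : P → F} {φ : P →* P} {c₀ : F} (H : ExtHyp E C ρ π φ c₀)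

include H

theorem π_one : π 1 = 0 := by
  have := H.hπ 1 E.one_mem 1 E.one_mem
  rw [mul_one] at this
  exact left_eq_add.mp this

theorem π_inv {x : P} (hx : x ∈ E) : π x⁻¹ = -π x := by
  have := H.hπ x hx x⁻¹ (E.inv_mem hx)
  rw [mul_inv_cancel, H.π_one] at this
  linear_combination -this

theorem ρ_one : ρ 1 = 1 := by
  have := H.hρmul 1 C.one_mem 1 C.one_mem
  rw [mul_one] at this
  exact left_eq_mul.mp this

theorem ρ_inv {c : P} (hc : c ∈ C) : ρ c⁻¹ = (ρ c)⁻¹ := by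
  have := H.hρmul c hc c⁻¹ (C.inv_mem hc)
  rw [mul_inv_cancel, H.ρ_one] at this
  exact eq_inv_of_mul_eq_one_right this.symm

theorem conj_mem {e c : P} (he : e ∈ E) (hc : c ∈ C) : e * c * e⁻¹ ∈ C := by
  have hcE := H.hCE hc
  have hmem : e * c * e⁻¹ ∈ E := E.mul_mem (E.mul_mem he hcE) (E.inv_mem he)
  rw [← H.hker _ hmem, H.hπ _ (E.mul_mem he hcE) _ (E.inv_mem he), H.hπ _ he _ hcE, H.π_inv he,
    (H.hker c hcE).mpr hc]
  ring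

theorem comm_mem {x y : P} (hx : x ∈ E) (hy : y ∈ E) : x * y * x⁻¹ * y⁻¹ ∈ C := by
  have h1 : x * y ∈ E := E.mul_mem hx hy
  have h2 : x * y * x⁻¹ ∈ E := E.mul_mem h1 (E.inv_mem hx)
  have h3 : x * y * x⁻¹ * y⁻¹ ∈ E := E.mul_mem h2 (E.inv_mem hy)
  rw [← H.hker _ h3, H.hπ _ h2 _ (E.inv_mem hy), H.hπ _ h1 _ (E.inv_mem hx), H.hπ _ hx _ hy,
    H.π_inv hx, H.π_inv hy]
  ring

theorem T_mem {y : P} (hy : y ∈ E) : extT φ y ∈ E := E.mul_mem (H.hφE y hy) (E.inv_mem hy)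

theorem π_T {y : P} (hy : y ∈ E) : π (extT φ y) = (c₀ - 1) * π y := by
  unfold extT
  rw [H.hπ _ (H.hφE y hy) _ (E.inv_mem hy), H.hπφ y hy, H.π_inv hy]; ring

theorem T_C_mem {w : P} (hw : w ∈ C) : extT φ w ∈ C := by
  have hwE := H.hCE hw
  rw [← H.hker _ (H.T_mem hwE), H.π_T hwE, (H.hker w hwE).mpr hw, mul_zero]

theorem φ_C_mem {w : P} (hw : w ∈ C) : φ w ∈ C := by
  have hwE := H.hCE hw
  rw [← H.hker _ (H.hφE w hwE), H.hπφ w hwE, (H.hker w hwE).mpr hw, mul_zero]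

theorem ρ_T_C {w : P} (hw : w ∈ C) : ρ (extT φ w) = 1 := by
  unfold extT
  rw [H.hρmul _ (H.φ_C_mem hw) _ (C.inv_mem hw), H.hρφ w hw, H.ρ_inv hw, mul_inv_cancel]

theorem key {y y' y'' : P} (hy : y ∈ E) (hy' : y' ∈ E) (hy'' : y'' ∈ E) (h : π y'' = π y + π y') :
    extT φ y * extT φ y' * (extT φ y'')⁻¹ ∈ C ∧ ρ (extT φ y * extT φ y' * (extT φ y'')⁻¹) = 1 := by
  have hyy' : y * y' ∈ E := E.mul_mem hy hy'
  obtain ⟨w, hw⟩ : ∃ w, w = (y * y')⁻¹ * y'' := ⟨_, rfl⟩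
  have hwE : w ∈ E := by rw [hw]; exact E.mul_mem (E.inv_mem hyy') hy''
  have hwC : w ∈ C := by
    rw [← H.hker _ hwE, hw, H.hπ _ (E.inv_mem hyy') _ hy'', H.π_inv hyy', H.hπ _ hy _ hy', h]; ring
  have hy''eq : y'' = y * y' * w := by rw [hw]; group
  have hTwC := H.T_C_mem hwC
  obtain ⟨k, hk⟩ : ∃ k, k = ((y * y') * extT φ w * (y * y')⁻¹)⁻¹ := ⟨_, rfl⟩
  have hkC : k ∈ C := by rw [hk]; exact C.inv_mem (H.conj_mem hyy' hTwC)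
  have hρk : ρ k = 1 := by
    rw [hk, H.ρ_inv (H.conj_mem hyy' hTwC), H.hρconj _ hyy' _ hTwC, H.ρ_T_C hwC, inv_one]
  have hTy' := H.T_mem hy'
  have hTy := H.T_mem hy
  have hc1C : extT φ y' * k * (extT φ y')⁻¹ ∈ C := H.conj_mem hTy' hkC
  have hc2C : extT φ y' * y * (extT φ y')⁻¹ * y⁻¹ ∈ C := H.comm_mem hTy' hy
  have hd : extT φ y * extT φ y' * (extT φ y'')⁻¹ = extT φ y *
      ((extT φ y' * k * (extT φ y')⁻¹) * (extT φ y' * y * (extT φ y')⁻¹ * y⁻¹)) * (extT φ y)⁻¹ := by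
    rw [hy''eq, extT_mul, extT_mul, hk]; group
  rw [hd]
  refine ⟨H.conj_mem hTy (C.mul_mem hc1C hc2C), ?_⟩
  rw [H.hρconj _ hTy _ (C.mul_mem hc1C hc2C), H.hρmul _ hc1C _ hc2C, H.hρconj _ hTy' _ hkC, hρk,
    H.hρcomm _ hTy' _ hy, one_mul]

theorem M {x x' y y' y'' : P} (hx : x ∈ E) (hx' : x' ∈ E) (hy : y ∈ E) (hy' : y' ∈ E)
    (hy'' : y'' ∈ E) (h : π x = π (extT φ y)) (h' : π x' = π (extT φ y'))
    (h'' : π (x * x') = π (extT φ y'')) :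
    x * (extT φ y)⁻¹ ∈ C ∧
    ρ (x * x' * (extT φ y'')⁻¹) = ρ (x * (extT φ y)⁻¹) * ρ (x' * (extT φ y')⁻¹) := by
  have hTy := H.T_mem hy
  have hTy' := H.T_mem hy'
  have hcE : x * (extT φ y)⁻¹ ∈ E := E.mul_mem hx (E.inv_mem hTy)
  have hcC : x * (extT φ y)⁻¹ ∈ C := by
    rw [← H.hker _ hcE, H.hπ _ hx _ (E.inv_mem hTy), H.π_inv hTy, h]; ring
  have hc'E : x' * (extT φ y')⁻¹ ∈ E := E.mul_mem hx' (E.inv_mem hTy')
  have hc'C : x' * (extT φ y')⁻¹ ∈ C := by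
    rw [← H.hker _ hc'E, H.hπ _ hx' _ (E.inv_mem hTy'), H.π_inv hTy', h']; ring
  have hsum : π y'' = π y + π y' := by
    have h1 : (c₀ - 1) * π y'' = (c₀ - 1) * (π y + π y') := by
      rw [← H.π_T hy'', ← h'', H.hπ _ hx _ hx', h, h', H.π_T hy, H.π_T hy']; ring
    exact mul_left_cancel₀ (sub_ne_zero.mpr H.hc₀) h1
  obtain ⟨hdC, hρd⟩ := H.key hy hy' hy'' hsum
  have e : x * x' * (extT φ y'')⁻¹ = (x * (extT φ y)⁻¹) *
      (extT φ y * (x' * (extT φ y')⁻¹) * (extT φ y)⁻¹) *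
      (extT φ y * extT φ y' * (extT φ y'')⁻¹) := by group
  refine ⟨hcC, ?_⟩
  rw [e, H.hρmul _ (C.mul_mem hcC (H.conj_mem hTy hc'C)) _ hdC, hρd, mul_one,
    H.hρmul _ hcC _ (H.conj_mem hTy hc'C), H.hρconj _ hTy _ hc'C]

end ExtHyp

/-- [EXT] -/
theorem ext : ExtStmt P A F := by
  intro E C hCE ρ hρmul π hπ hsurj hker φ hφE c₀ hc₀ hπφ hρφ hρconj hρcomm
  have H : ExtHyp E C ρ π φ c₀ := ⟨hCE, hρmul, hπ, hker, hφE, hc₀, hπφ, hρφ, hρconj, hρcomm⟩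
  have hc1 : c₀ - 1 ≠ 0 := sub_ne_zero.mpr hc₀
  choose s hsE hs using hsurj
  have hsec : ∀ x, π (extT φ (s ((c₀ - 1)⁻¹ * π x))) = π x := by
    intro x
    rw [H.π_T (hsE _), hs, mul_inv_cancel_left₀ hc1]
  have h1E : (1 : P) ∈ E := E.one_mem
  have hπ1 : π 1 = π (extT φ 1) := by rw [extT_one]
  have hρ11 : ρ (1 * (extT φ 1)⁻¹) = 1 := by rw [extT_one, inv_one, mul_one, H.ρ_one]
  refine ⟨fun x => ρ (x * (extT φ (s ((c₀ - 1)⁻¹ * π x)))⁻¹), ?_, ?_, ?_⟩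
  · intro x hx y hy
    exact (H.M hx hy (hsE _) (hsE _) (hsE _) (hsec x).symm (hsec y).symm (hsec (x * y)).symm).2
  · intro c hc
    have hcE := hCE hc
    have h0 : π c = π (extT φ 1) := by rw [extT_one, H.π_one, (hker c hcE).mpr hc]
    have h2 : π (c * 1) = π (extT φ (s ((c₀ - 1)⁻¹ * π c))) := by rw [mul_one, hsec]
    have := (H.M hcE h1E h1E h1E (hsE _) h0 hπ1 h2).2
    rw [mul_one, hρ11, mul_one, extT_one, inv_one, mul_one] at this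
    exact this
  · intro x hx
    have hφx := hφE x hx
    have hsx := hsE ((c₀ - 1)⁻¹ * π x)
    have h0 : π (φ x) = π (extT φ (φ (s ((c₀ - 1)⁻¹ * π x)))) := by
      rw [extT_φ, hπφ _ (H.T_mem hsx), hsec, hπφ x hx]
    have h2 : π (φ x * 1) = π (extT φ (s ((c₀ - 1)⁻¹ * π (φ x)))) := by rw [mul_one, hsec]
    have hM := (H.M hφx h1E (hφE _ hsx) h1E (hsE _) h0 hπ1 h2).2
    rw [mul_one, hρ11, mul_one, extT_φ, ← map_inv, ← map_mul] at hM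
    have hcC : x * (extT φ (s ((c₀ - 1)⁻¹ * π x)))⁻¹ ∈ C :=
      (H.M hx h1E hsx h1E hsx (hsec x).symm hπ1 (by rw [mul_one, hsec])).1
    show ρ (φ x * (extT φ (s ((c₀ - 1)⁻¹ * π (φ x))))⁻¹) = ρ (x * (extT φ (s ((c₀ - 1)⁻¹ * π x)))⁻¹)
    rw [hM, hρφ _ hcC]

end Cfsg.Agent.Lib.Helper20.ReeM
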