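import Mathlib
import Cfsg.Agent.Lib.Helper20.ReeM.Defs

/-! # REEM [GEN] (helper20): the weights of a generator are non-trivial -/

set_option autoImplicit false

namespace Cfsg.Agent.Lib.Helper20.ReeM

variable {F : Type*} [Field F] [Fintype F] {m : ℕ}

theorem pow_ne_one_of_gen (hF : Fintype.card F = 3 ^ (2 * m + 1)) (a : F)
    (hgen : ∀ u : F, u ≠ 0 → ∃ j : ℕ, a ^ j = u) (k : ℕ) (hk0 : 0 < k)
    (hk : k < 3 ^ (2 * m + 1) - 1) : a ^ k ≠ 1 := by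
  intro h
  have hall : ∀ x : Fˣ, x ^ k = 1 := by
    intro x
    obtain ⟨j, hj⟩ := hgen x x.ne_zero
    apply Units.ext
    push_cast
    rw [← hj, ← pow_mul, mul_comm, pow_mul, h, one_pow]
  have hd := (FiniteField.forall_pow_eq_one_iff F k).mp hall
  rw [hF] at hd
  exact absurd (Nat.le_of_dvd hk0 hd) (by omega)

theorem gen_ne_one (hm : 1 ≤ m) (hF : Fintype.card F = 3 ^ (2 * m + 1)) (a : F)
    (hgen : ∀ u : F, u ≠ 0 → ∃ j : ℕ, a ^ j = u) :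
    a ≠ 1 ∧ a ^ (1 + 3 * 3 ^ m) ≠ 1 ∧ a ^ (2 + 3 * 3 ^ m) ≠ 1 := by
  have h3 : 3 ≤ 3 ^ m := by
    calc 3 = 3 ^ 1 := by norm_num
      _ ≤ 3 ^ m := Nat.pow_le_pow_right (by norm_num) hm
  have hq : 3 ^ (2 * m + 1) = 3 * 3 ^ m * 3 ^ m := by ring
  have hbig : 2 + 3 * 3 ^ m < 3 ^ (2 * m + 1) - 1 := by
    rw [hq]
    have : 3 * 3 ^ m * 3 ≤ 3 * 3 ^ m * 3 ^ m := Nat.mul_le_mul_left _ h3
    omega
  refine ⟨?_, ?_, ?_⟩
  · have := pow_ne_one_of_gen hF a hgen 1 (by norm_num) (by omega)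
    rwa [pow_one] at this
  · exact pow_ne_one_of_gen hF a hgen _ (by omega) (by omega)
  · exact pow_ne_one_of_gen hF a hgen _ (by omega) hbig

end Cfsg.Agent.Lib.Helper20.ReeM
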