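import Mathlib
import Cfsg.Agent.Lib.Helper20.ReeM.Defs
import Cfsg.Agent.Lib.Helper20.ReeM.Gen

/-! # REEM [P11] (helper20): the pairing lemma with weights `(a, a)` -/

set_option autoImplicit false
set_option linter.unusedSectionVars false

namespace Cfsg.Agent.Lib.Helper20.ReeM

variable {F : Type*} [Field F] [Fintype F] [CharP F 3] {m : ℕ} {A : Type*} [CommGroup A]

theorem biAdd_zero_right' {f : F → F → A} (hf : BiAdd f) (t : F) : f t 0 = 1 := by
  have := hf.2 t 0 0
  rw [add_zero] at this
  exact left_eq_mul.mp this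

theorem biAdd_neg_right' {f : F → F → A} (hf : BiAdd f) (t u : F) : f t (-u) = (f t u)⁻¹ := by
  have := hf.2 t u (-u)
  rw [add_neg_cancel, biAdd_zero_right' hf] at this
  exact eq_inv_of_mul_eq_one_right this.symm

/-- [P11] -/
theorem pair11 (hm : 1 ≤ m) (hF : Fintype.card F = 3 ^ (2 * m + 1)) (a : F)
    (hgen : ∀ u : F, u ≠ 0 → ∃ j : ℕ, a ^ j = u) : PairStmt F A a 1 1 := by
  intro f hf hinv
  have h3 : (3 : F) = 0 := by
    have := CharP.cast_eq_zero F 3
    exact_mod_cast this
  -- `a ≠ 0, 1, -1`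
  have ha1 : a ≠ 1 := (gen_ne_one hm hF a hgen).1
  have hbig : 2 < 3 ^ (2 * m + 1) - 1 := by
    have : 3 ^ 3 ≤ 3 ^ (2 * m + 1) := Nat.pow_le_pow_right (by norm_num) (by omega)
    omega
  have ha2 : a ^ 2 ≠ 1 := pow_ne_one_of_gen hF a hgen 2 (by norm_num) hbig
  have ha0 : a ≠ 0 := by
    intro h0
    obtain ⟨j, hj⟩ := hgen (-1) (neg_ne_zero.mpr one_ne_zero)
    rw [h0] at hj
    rcases Nat.eq_zero_or_pos j with rfl | hjpos
    · rw [pow_zero] at hj
      have : (2 : F) = 0 := by linear_combination hj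
      have h1 : (1 : F) = 0 := by linear_combination h3 - this
      exact one_ne_zero h1
    · rw [zero_pow hjpos.ne'] at hj
      have : (1 : F) = 0 := by linear_combination hj
      exact one_ne_zero this
  have ham1 : a + 1 ≠ 0 := by
    intro h
    apply ha2
    have : a = -1 := by linear_combination h
    rw [this]; ring
  -- invariance under `a`
  have hinv' : ∀ t u, f (a * t) (a * u) = f t u := by
    intro t u
    have := hinv t u
    rwa [pow_one] at this
  -- moving `a` across
  have hmove : ∀ t u, f (a * t) u = f t (a⁻¹ * u) := by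
    intro t u
    have := hinv' t (a⁻¹ * u)
    rwa [mul_inv_cancel_left₀ ha0] at this
  -- invariance under `a + 1`: iterate the generator
  have hpow : ∀ (j : ℕ) t u, f (a ^ j * t) (a ^ j * u) = f t u := by
    intro j
    induction j with
    | zero => intro t u; rw [pow_zero, one_mul, one_mul]
    | succ j ih =>
      intro t u
      rw [pow_succ', mul_assoc, mul_assoc, hinv', ih]
  obtain ⟨j, hj⟩ := hgen (a + 1) ham1
  have hmove1 : ∀ t u, f ((a + 1) * t) u = f t ((a + 1)⁻¹ * u) := by
    intro t u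
    have := hpow j t ((a + 1)⁻¹ * u)
    rwa [hj, mul_inv_cancel_left₀ ham1] at this
  -- compare
  have hcmp : ∀ t u, f t ((a + 1)⁻¹ * u) = f t (a⁻¹ * u) * f t u := by
    intro t u
    rw [← hmove1, ← hmove, add_mul, one_mul, hf.1]
  set d : F := (a + 1)⁻¹ - a⁻¹ - 1 with hd
  have hd0 : d ≠ 0 := by
    intro h
    have h1 : d * (a * (a + 1)) = -(a - 1) ^ 2 := by
      rw [hd]
      field_simp
      linear_combination (-a) * h3
    rw [h, zero_mul] at h1
    have h2 : (a - 1) ^ 2 = 0 := by linear_combination h1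
    have h4 : a - 1 = 0 := by simpa using h2
    exact ha1 (by linear_combination h4)
  have hkill : ∀ t u, f t (d * u) = 1 := by
    intro t u
    have e : d * u = (a + 1)⁻¹ * u + (-(a⁻¹ * u) + -u) := by rw [hd]; ring
    rw [e, hf.2, hf.2, biAdd_neg_right' hf, biAdd_neg_right' hf, hcmp, ← mul_inv, mul_inv_cancel]
  intro t u
  have := hkill t (d⁻¹ * u)
  rwa [mul_inv_cancel_left₀ hd0] at this

end Cfsg.Agent.Lib.Helper20.ReeM
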