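import Mathlib
import Cfsg.Agent.Lib.Helper20.ReeM.Defs
import Cfsg.Agent.Lib.Helper20.ReeM.Gen
import Cfsg.Agent.Lib.Helper20.ReeM.P11
import Cfsg.Agent.Lib.Helper20.ReeM.Ext
import Cfsg.Agent.Lib.Helper42.ReeMPair
import Cfsg.Agent.Lib.Helper54.ReeMSt1
import Cfsg.Agent.Lib.Helper11.ReeMSt3
import Cfsg.Agent.Lib.Helper88.ReeMCP
import Cfsg.Agent.Lib.Helper88.ReeMP13
import Cfsg.Agent.Lib.Helper54.ReeMSt2

/-! # REEM (helper20): assembly of the splitting theorem `split` from the modules -/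

set_option autoImplicit false

namespace Cfsg.Agent.Lib.Helper20.ReeM


/-- **the abstract splitting theorem for the prime 3** -/
theorem split {F : Type*} [Field F] [Fintype F] [CharP F 3] {m : ℕ} (hm : 1 ≤ m)
    (hF : Fintype.card F = 3 ^ (2 * m + 1)) {P : Type*} [Group P] (S : Coord F (3 * 3 ^ m) P)
    (hgen : ∀ u : F, u ≠ 0 → ∃ j : ℕ, S.a ^ j = u)
    {A : Type*} [CommGroup A] (ρ₀ : P → A)
    (hρ₀ : ∀ x ∈ S.K₀, ∀ y ∈ S.K₀, ρ₀ (x * y) = ρ₀ x * ρ₀ y) :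
    ∃ χ : P →* A, ∀ z ∈ S.K₀, χ z = ρ₀ z := by
  obtain ⟨h1, h2, h3⟩ := gen_ne_one hm hF S.a hgen
  have hn : 3 * 3 ^ m ≠ 0 := by positivity
  have p11 : PairStmt F A S.a 1 1 := pair11 hm hF S.a hgen
  obtain ⟨χ₃, l₃⟩ := Cfsg.Agent.Lib.Helper11.ReeMSt3.stage3 S ρ₀ hn ext Cfsg.Agent.Lib.Helper88.ReeM.cp h3
    (Cfsg.Agent.Lib.Helper42.ReeM.pair33 hm hF S.a hgen p11)
    (Cfsg.Agent.Lib.Helper42.ReeM.pair23 hm hF S.a hgen) (Cfsg.Agent.Lib.Helper88.ReeM.pair13 hm hF S.a hgen) hρ₀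
  obtain ⟨χ₂, l₂⟩ := Cfsg.Agent.Lib.Helper54.ReeMSt2.stage2 S ρ₀ hn ext Cfsg.Agent.Lib.Helper88.ReeM.cp h2 (Cfsg.Agent.Lib.Helper42.ReeM.pair22 hm hF S.a hgen p11)
    (Cfsg.Agent.Lib.Helper42.ReeM.pair12 hm hF S.a hgen) χ₃ l₃
  exact Cfsg.Agent.Lib.Helper54.ReeMSt1.stage1 S ρ₀ ext Cfsg.Agent.Lib.Helper88.ReeM.cp h1 p11 χ₂ l₂

end Cfsg.Agent.Lib.Helper20.ReeM
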