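import Cfsg.Agent.Lib.Helper20.ReeLayers
import Cfsg.Agent.Lib.Helper20.ReeGlue2
import Cfsg.Agent.Lib.Helper20.ReeTw
import Cfsg.Agent.Lib.Helper61.Ree.TwCard
import Cfsg.Agent.Lib.Helper20.ReeM.ThreeAbs

/-!
# REEM (helper20): the prime `3` for `²G₂(q)`

The `RData` of `²G₂(3^(2m+1))` (coordinates `R m t u v` on `U¹`, torus element `reeH c` with `χ₁(c)` a generator
of `Kˣ`), the index of `U¹`, and the conclusion: a stem extension of `²G₂(q)` has no kernel element of order `3`,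
provided the splitting theorem `split` (taken as a hypothesis here).
-/

set_option autoImplicit false
set_option linter.unusedSectionVars false

namespace Cfsg.Agent.Lib.Helper20.ReeM

open Cfsg.Lie Cfsg.Agent.Lib.Helper18 Cfsg.Agent.Lib.Helper61.ChevJ.G2Short
  Cfsg.Agent.Lib.Helper61.ChevJ.G2Char3 Cfsg.Agent.Lib.Helper61.Ree Cfsg.Agent.Lib.Helper19.ReeAbs
  Cfsg.Agent.Lib.Helper91.Ree Cfsg.Agent.Lib.Helper20.ReeGlue Cfsg.Agent.Lib.Helper20.ReeTw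
  Cfsg.Agent.Lib.Helper20.ReeUMul Cfsg.Agent.Lib.Helper20.ReeLayers

universe u

variable {K : Type u} [Field K] [Fintype K] {m : ℕ}

/-- the weights of `reeH c` in terms of `a = χ₁(c) = c² / c^n`, `n = 3·3^m` -/
theorem weights (hq : ∀ t : K, t ^ (3 * 3 ^ m * 3 ^ m) = t) (c : K) (hc : c ≠ 0) :
    (c ^ 2 * (c ^ (3 * 3 ^ m))⁻¹) ^ (1 + 3 * 3 ^ m) = c ^ (3 * 3 ^ m) * c⁻¹ ∧
      (c ^ 2 * (c ^ (3 * 3 ^ m))⁻¹) ^ (2 + 3 * 3 ^ m) = c := by
  set n := 3 * 3 ^ m with hn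
  have hX : (c ^ n) ^ n = c ^ 3 := by
    have e : n * n = (3 * 3 ^ m * 3 ^ m) * 3 := by rw [hn]; ring
    rw [← pow_mul, e, pow_mul, hq]
  have h2 : (c ^ 2) ^ n = (c ^ n) ^ 2 := by rw [← pow_mul, ← pow_mul, mul_comm]
  have hXne : c ^ n ≠ 0 := pow_ne_zero _ hc
  constructor
  · rw [pow_add, pow_one, mul_pow, inv_pow, hX, h2]
    field_simp
  · rw [pow_add, mul_pow, mul_pow, inv_pow, inv_pow, hX, h2]
    field_simp

/-- The `RData` of `²G₂(q)` with the torus element `reeH c`. -/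
noncomputable def reeRData [CharP K 3] (hK : Fintype.card K = 3 ^ (2 * m + 1)) (c : Kˣ) :
    RData K (3 * 3 ^ m) ↥(twistedG2 K (3 ^ m)) where
  U := (chevG2.posUnipotent K).subgroupOf (twistedG2 K (3 ^ m))
  R t u v := ⟨R m t u v, wordG_reeWordU_mem_twisted _ t u v⟩
  inj t u v t' u' v' h := reeWordU_inj (3 ^ m) t u v t' u' v' (congrArg Subtype.val h)
  surj x hx := by
    have I : Inst (reeTw hK) m := inst_of hK (reeTw hK) rfl rfl rfl rfl
    obtain ⟨t, u, v, h⟩ := huu_surj hK (reeTw hK) I x.1 hx x.2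
    exact ⟨t, u, v, Subtype.ext h⟩
  mem t u v := by
    rw [Subgroup.mem_subgroupOf]
    exact wordG_reeWordU_mem_U _ t u v
  mul t u v t' u' v' := by
    apply Subtype.ext
    have e : ∀ x : K, (x ^ 3 ^ m) ^ 3 = x ^ (3 * 3 ^ m) := fun x => by rw [← pow_mul, mul_comm]
    show R m t u v * R m t' u' v' = R m _ _ _
    rw [R_mul (ReeGlue.hq_of_card hK), e]
  zero := Subtype.ext R_zero
  h := ⟨reeH (3 ^ m) c, (inst_of hK (reeTw hK) rfl rfl rfl rfl).hHmem c⟩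
  a := (c : K) ^ 2 * ((c : K) ^ (3 * 3 ^ m))⁻¹
  conj t u v := by
    apply Subtype.ext
    obtain ⟨w1, w2⟩ := weights (ReeGlue.hq_of_card hK) (c : K) c.ne_zero
    show reeH (3 ^ m) c * R m t u v * (reeH (3 ^ m) c)⁻¹ = R m _ _ _
    rw [R_conj (ReeGlue.hq_of_card hK), w1, w2]

theorem reeRData_a [CharP K 3] (hK : Fintype.card K = 3 ^ (2 * m + 1)) (c : Kˣ) :
    (reeRData hK c).a = (c : K) ^ 2 * ((c : K) ^ (3 * 3 ^ m))⁻¹ := rfl

theorem reeRData_U [CharP K 3] (hK : Fintype.card K = 3 ^ (2 * m + 1)) (c : Kˣ) :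
    (reeRData hK c).U = (chevG2.posUnipotent K).subgroupOf (twistedG2 K (3 ^ m)) := rfl

/-- the index of `U¹` in `²G₂(q)` is prime to `3` -/
theorem index_U_coprime (hK : Fintype.card K = 3 ^ (2 * m + 1)) :
    Nat.Coprime ((chevG2.posUnipotent K).subgroupOf (twistedG2 K (3 ^ m))).index 3 := by
  have : CharP K 3 := Cfsg.Agent.S1101.charP_three hK
  have hcardG := Cfsg.Agent.Lib.Helper61.ReeInv.ree_card hK
  have hcardU : Nat.card ↥((chevG2.posUnipotent K).subgroupOf (twistedG2 K (3 ^ m))) = (3 ^ (2 * m + 1)) ^ 3 := by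
    rw [Cfsg.Agent.Lib.Helper20.ReeSyl2.card_subgroupOf_eq_card_inf]
    exact (Cfsg.Agent.S1101.main hK).2
  have hmul := Subgroup.card_mul_index ((chevG2.posUnipotent K).subgroupOf (twistedG2 K (3 ^ m)))
  rw [hcardU, hcardG, mul_assoc] at hmul
  have hpos : 0 < (3 ^ (2 * m + 1)) ^ 3 := by positivity
  have hidx := Nat.eq_of_mul_eq_mul_left hpos hmul
  rw [hidx]
  obtain ⟨k, hk, hk1⟩ : ∃ k, 3 ^ (2 * m + 1) = 3 * k ∧ 1 ≤ k :=
    ⟨3 ^ (2 * m), by ring, Nat.one_le_pow _ _ (by norm_num)⟩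
  rw [hk]
  have h1 : ¬ 3 ∣ 3 * k - 1 := by omega
  have h2 : ¬ 3 ∣ (3 * k) ^ 3 + 1 := by
    have : (3 * k) ^ 3 = 3 * (9 * k ^ 3) := by ring
    rw [this]; omega
  have h3 : ¬ 3 ∣ (3 * k - 1) * ((3 * k) ^ 3 + 1) := by
    intro h
    rcases (Nat.Prime.dvd_mul Nat.prime_three).mp h with h | h
    · exact h1 h
    · exact h2 h
  exact ((Nat.Prime.coprime_iff_not_dvd Nat.prime_three).2 h3).symm

/-- **The prime 3.**  A stem extension of `²G₂(q)` has no kernel element of order `3`, given the splitting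
theorem. -/
theorem three_case (hK : Fintype.card K = 3 ^ (2 * m + 1))
    {Γ : Type u} [Group Γ] [Finite Γ] (σ : Γ →* ↥(twistedG2 K (3 ^ m))) (hσ : Cfsg.IsStemExtension σ)
    (hsplit : ∀ {P : Type u} [Group P] (S : Coord K (3 * 3 ^ m) P),
      (∀ u : K, u ≠ 0 → ∃ j : ℕ, S.a ^ j = u) →
      ∀ {A : Type u} [CommGroup A] (ρ₀ : P → A),
        (∀ x ∈ S.K₀, ∀ y ∈ S.K₀, ρ₀ (x * y) = ρ₀ x * ρ₀ y) →
        ∃ χ : P →* A, ∀ z ∈ S.K₀, χ z = ρ₀ z)
    (z : Γ) (hz : z ∈ σ.ker) (hz3 : z ^ 3 = 1) : z = 1 := by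
  have : CharP K 3 := Cfsg.Agent.S1101.charP_three hK
  have hq := ReeGlue.hq_of_card hK
  obtain ⟨g, hg⟩ := IsCyclic.exists_monoid_generator (α := Kˣ)
  obtain ⟨c, hc⟩ := chi1_surj hq (g : K) g.ne_zero
  have hgen : ∀ u : K, u ≠ 0 → ∃ j : ℕ, (reeRData hK c).a ^ j = u := by
    intro u hu
    obtain ⟨j, hj⟩ := (Submonoid.mem_powers_iff _ _).mp (hg (Units.mk0 u hu))
    refine ⟨j, ?_⟩
    rw [reeRData_a, hc]
    have := congrArg Units.val hj
    simpa using this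
  refine (reeRData hK c).three_abs σ hσ ?_ (index_U_coprime hK) z hz hz3
  intro S hS A _ ρ₀ hρ₀
  exact hsplit S (by rw [hS]; exact hgen) ρ₀ hρ₀

end Cfsg.Agent.Lib.Helper20.ReeM
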