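import Mathlib
import Cfsg.Prelude.Def_KGroupFacts
import Cfsg.Agent.Lib.Helper57.StemAbelian
import Cfsg.Agent.Lib.Helper66.ReeMTwo
import Cfsg.Agent.Lib.Helper47.ReeMFpf

/-!
# REEM (helper20): the primes `2` and `p > 3`, abstract glue

If the preimage of a Sylow `p`-subgroup in a stem extension is abelian, the kernel has no element of order `p`
(transfer, helper57's `pow_index_eq_one_of_comm`).  This applies to cyclic Sylow subgroups
(`comm_comap_of_isCyclic`) and to a self-centralizing elementary abelian Sylow `2`-subgroup of order `8` whose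
normalizer has order `168` (helper66's `comm_comap_of_singer8` + helper47's `exists_singer`).
-/

set_option autoImplicit false

namespace Cfsg.Agent.Lib.Helper20.ReeM

universe u v

variable {G : Type v} [Group G] [Finite G] {Γ : Type u} [Group Γ] [Finite Γ]

/-- a stem extension has no kernel element of order `p` if the preimage of a Sylow `p`-subgroup is abelian -/
theorem eq_one_of_abelian_comap (σ : Γ →* G) (hσ : Cfsg.IsStemExtension σ) {p : ℕ} [Fact p.Prime]
    (Q : Sylow p G) (habel : ∀ a b : (Q : Subgroup G).comap σ, a * b = b * a)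
    (z : Γ) (hz : z ∈ σ.ker) (hzp : z ^ p = 1) : z = 1 := by
  obtain ⟨hsurj, hcen, hcomm⟩ := hσ
  have h1 := Cfsg.Agent.Lib.Helper57.pow_index_eq_one_of_comm ((Q : Subgroup G).comap σ) habel z
    (hcen hz) (hcomm hz)
  rw [Subgroup.index_comap_of_surjective _ hsurj] at h1
  have hnd : ¬ p ∣ (Q : Subgroup G).index := Sylow.not_dvd_index Q
  have hcop : Nat.Coprime (Q : Subgroup G).index p :=
    ((Nat.Prime.coprime_iff_not_dvd Fact.out).2 hnd).symm
  have h5 := orderOf_dvd_of_pow_eq_one h1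
  have h6 := orderOf_dvd_of_pow_eq_one hzp
  have h7 : orderOf z ∣ 1 := by
    have := Nat.dvd_gcd h5 h6
    rwa [hcop] at this
  exact orderOf_eq_one_iff.mp (Nat.dvd_one.mp h7)

/-- cyclic Sylow subgroups -/
theorem eq_one_of_cyclic_sylow (σ : Γ →* G) (hσ : Cfsg.IsStemExtension σ) {p : ℕ} [Fact p.Prime]
    (Q : Sylow p G) (hcyc : IsCyclic (Q : Subgroup G))
    (z : Γ) (hz : z ∈ σ.ker) (hzp : z ^ p = 1) : z = 1 :=
  eq_one_of_abelian_comap σ hσ Q
    (fun a b => Cfsg.Agent.Lib.Helper57.comm_comap_of_isCyclic σ hσ.2.1 (Q : Subgroup G) a b) z hz hzp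

/-- a self-centralizing elementary abelian Sylow `2`-subgroup of order `8` with normalizer of order `168` -/
theorem eq_one_of_sylow2 (σ : Γ →* G) (hσ : Cfsg.IsStemExtension σ) (Q : Sylow 2 G)
    (h8 : Nat.card (Q : Subgroup G) = 8) (hexp : ∀ e ∈ (Q : Subgroup G), e * e = 1)
    (hC : Subgroup.centralizer ((Q : Subgroup G) : Set G) = Q)
    (hN : Nat.card (Subgroup.normalizer ((Q : Subgroup G) : Set G)) = 168)
    (z : Γ) (hz : z ∈ σ.ker) (hz2 : z ^ 2 = 1) : z = 1 := by
  haveI : Fact (Nat.Prime 2) := ⟨Nat.prime_two⟩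
  obtain ⟨x, hx7, hnorm, hfpf⟩ :=
    Cfsg.Agent.Lib.Helper47.ReeMFpf.exists_singer (Q : Subgroup G) h8 hC hN
  exact eq_one_of_abelian_comap σ hσ Q
    (Cfsg.Agent.Lib.Helper66.ReeM.comm_comap_of_singer8 σ hσ.1 hσ.2.1 (Q : Subgroup G) h8 hexp x hx7 hnorm hfpf)
    z hz hz2

end Cfsg.Agent.Lib.Helper20.ReeM
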